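import Groth.Agent.H29RR.Consts
import Groth.Agent.H28Int.Push
import Mathlib.AlgebraicGeometry.AlgClosed.Basic

/-!
# Reduced finite schemes over an algebraically closed field
-/

set_option autoImplicit false
set_option linter.style.haveILetI false
universe u

open CategoryTheory CategoryTheory.Limits AlgebraicGeometry

namespace Groth.Agent.H27HW

/-- Global functions on a reduced finite scheme over an algebraically closed field. -/
theorem finrank_h0_eq_natCard (k : Type u) [Field k] [IsAlgClosed k] (Z : Scheme.{u})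
    [Z.Over (Spec (CommRingCat.of k))] [IsProper (Z ↘ Spec (CommRingCat.of k))] [IsReduced Z] [Finite Z] :
    Module.finrank k (Coh.HH Z (Coh.structureModule Z) 0) = Nat.card Z := by
  classical
  let f := Z ↘ Spec (CommRingCat.of k)
  letI := H22Alg.GlobalFunctions.algΓ f
  haveI : LocallyQuasiFinite f := locallyQuasiFinite_iff_finite_preimage_singleton.2 fun _ => Set.toFinite _
  haveI : IsFinite f := (IsFinite.iff_isProper_and_locallyQuasiFinite f).2 ⟨inferInstance, inferInstance⟩
  haveI : IsAffine Z := isAffine_of_isAffineHom f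
  haveI : Module.Finite k Γ(Z, ⊤) :=
    RingHom.Finite.comp (IsFinite.finite_app (f := f) ⊤ (isAffineOpen_top _))
      (RingHom.Finite.of_surjective _ (Scheme.ΓSpecIso (CommRingCat.of k)).symm.commRingCatIsoToRingEquiv.surjective)
  let e : Coh.HH Z (Coh.structureModule Z) 0 ≃ₗ[k] Γ(Z, ⊤) :=
    { H10Coh.HH0Equiv (Coh.structureModule Z) with
      map_smul' := fun c x => (H10Coh.HH0Equiv_smul (Coh.structureModule Z)
        (f.appTop ((Scheme.ΓSpecIso (CommRingCat.of k)).inv c)) x).trans rfl }
  rw [e.finrank_eq, Nat.card_congr Z.isoSpec.hom.homeomorph.toEquiv]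
  show _ = Nat.card (PrimeSpectrum Γ(Z, ⊤))
  haveI : IsArtinianRing Γ(Z, ⊤) := IsArtinianRing.of_finite k _
  haveI : Algebra.IsIntegral k Γ(Z, ⊤) := Algebra.IsIntegral.of_finite _ _
  haveI : Fintype (MaximalSpectrum Γ(Z, ⊤)) := Fintype.ofFinite _
  have hb : ∀ m : MaximalSpectrum Γ(Z, ⊤), Function.Bijective (algebraMap k (Γ(Z, ⊤) ⧸ m.asIdeal)) := fun m =>
    ⟨(algebraMap k _).injective, by
      haveI := m.isMaximal
      exact (IsAlgClosed.ringHom_bijective_of_isIntegral (algebraMap k (Γ(Z, ⊤) ⧸ m.asIdeal))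
        (algebraMap_isIntegral_iff.mpr inferInstance)).2⟩
  rw [((IsArtinianRing.equivPi Γ(Z, ⊤)).restrictScalars k).toLinearEquiv.finrank_eq, Module.finrank_pi_fintype,
    Finset.sum_congr rfl fun m _ => ((LinearEquiv.ofBijective (Algebra.linearMap k _) (hb m)).finrank_eq.symm.trans
      (Module.finrank_self k)), Finset.sum_const, Finset.card_univ, smul_eq_mul, mul_one, ← Nat.card_eq_fintype_card]
  exact Nat.card_congr (IsArtinianRing.primeSpectrumEquivMaximalSpectrum (R := Γ(Z, ⊤))).symm

/-- Points of a finite scheme over an algebraically closed field are its rational points. -/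
theorem natCard_eq_natCard_points (k : Type u) [Field k] [IsAlgClosed k] (Z : Scheme.{u})
    (f : Z ⟶ Spec (CommRingCat.of k)) [LocallyOfFiniteType f] [Finite Z] :
    Nat.card Z = Nat.card {g : Spec (CommRingCat.of k) ⟶ Z // g ≫ f = 𝟙 _} := by
  haveI : JacobsonSpace Z := LocallyOfFiniteType.jacobsonSpace f
  haveI : DiscreteTopology Z := inferInstance
  rw [Nat.card_congr (pointEquivClosedPoint f)]
  exact Nat.card_congr ((Equiv.subtypeUnivEquiv fun z => (isClosed_discrete ({z} : Set Z))).symm)

end Groth.Agent.H27HW
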