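import Groth.Agent.H27Prod.Fibre
import Groth.Agent.H28Int.FieldExt
import Groth.Agent.H16Derived.KFlat.FinLocFree

/-!
# Degrees under finite morphisms of curves
-/

set_option autoImplicit false
set_option linter.style.haveILetI false
set_option linter.unusedSectionVars false
set_option backward.isDefEq.respectTransparency.types false
universe u

open CategoryTheory CategoryTheory.Limits AlgebraicGeometry

namespace Groth.Agent.H27HW

open Groth.Agent.H28Int

variable (k : Type u) [Field k] {C D' : Scheme.{u}} [C.Over (Spec (CommRingCat.of k))] [D'.Over (Spec (CommRingCat.of k))]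
  [IsProper (C ↘ Spec (CommRingCat.of k))] [IsProper (D' ↘ Spec (CommRingCat.of k))]

theorem deg_pow (hC : topologicalKrullDim C ≤ ((1 : ℕ) : WithBot ℕ∞)) {L : C.Modules} (hL : PicF.IsInvertible L) :
    ∀ n : ℕ, Curv2.deg k C (CohB1.tensorPow L n) 1 = n * Curv2.deg k C L 1
  | 0 => (H27Prod.deg_structure k).trans (by simp)
  | n + 1 => by
    show Curv2.deg k C (CohB1.tensorMod (CohB1.tensorPow L n) L) 1 = _
    rw [H27Prod.deg_tensor k hC (H11Ample.isInvertible_tensorPow hL n) hL, deg_pow hC hL n]
    push_cast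
    ring

/-- Degrees of pullbacks along an affine morphism onto a curve are proportional. -/
theorem deg_pullback_prop [IsIntegral C] (hC : topologicalKrullDim C = 1) (g : D' ⟶ C) [IsAffineHom g]
    (hg : g ≫ (C ↘ Spec (CommRingCat.of k)) = D' ↘ Spec (CommRingCat.of k))
    (hP : Coh.IsCoh ((Coh.push g).obj (Coh.structureModule D')))
    {A B : C.Modules} (hA : PicF.IsInvertible A) (hB : PicF.IsInvertible B) :
    Curv2.deg k D' ((Scheme.Modules.pullback g).obj A) 1 * Curv2.deg k C B 1 =
      Curv2.deg k D' ((Scheme.Modules.pullback g).obj B) 1 * Curv2.deg k C A 1 := by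
  haveI := H28Int.isNoetherian k (X := C)
  let O := Coh.structureModule C
  have hψA := isAddFn_D k [A] (List.forall_mem_singleton.2 hA)
  have hψB := isAddFn_D k [B] (List.forall_mem_singleton.2 hB)
  let ψ : C.Modules → ℤ := fun F => D k [A] F * D k [B] O - D k [B] F * D k [A] O
  have hψ : IsAddFn ψ :=
    ⟨fun e => by show _ - _ = _ - _; rw [hψA.congr e, hψB.congr e],
      fun S hS h₁ h₂ h₃ => by show _ - _ = (_ - _) + (_ - _); rw [hψA.add S hS h₁ h₂ h₃, hψB.add S hS h₁ h₂ h₃]; ring⟩
  obtain ⟨m, hm, -⟩ := Curves.exists_mult k hC hψ (fun F hF hlt => by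
    show _ - _ = 0
    rw [D_eq_zero k [A] (List.forall_mem_singleton.2 hA) F hF (by simpa using hlt),
      D_eq_zero k [B] (List.forall_mem_singleton.2 hB) F hF (by simpa using hlt)]
    ring) _ hP
  have h0 : ψ O = 0 := by show _ - _ = 0; ring
  rw [h0, mul_zero] at hm
  have hm' : D k [A] ((Coh.push g).obj (Coh.structureModule D')) * D k [B] O -
      D k [B] ((Coh.push g).obj (Coh.structureModule D')) * D k [A] O = 0 := hm
  rw [Curves.D_push_affine k g hg hA, Curves.D_push_affine k g hg hB] at hm'
  rw [H27Prod.deg_eq_D k hA, H27Prod.deg_eq_D k hB, H27Prod.deg_eq_D k (H11Ample.isInvertible_pullback g hA),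
    H27Prod.deg_eq_D k (H11Ample.isInvertible_pullback g hB)]
  linear_combination hm'

/-- The class of a curve on a surface pairs as the degree on the curve. -/
theorem exists_curve_class {S : Scheme.{u}} [S.Over (Spec (CommRingCat.of k))] [IsProper (S ↘ Spec (CommRingCat.of k))]
    [Smooth (S ↘ Spec (CommRingCat.of k))] [IsIntegral S] [IsIntegral C] (hdim : topologicalKrullDim S = 2)
    (hC : topologicalKrullDim C = 1) (i : C ⟶ S) [IsClosedImmersion i]
    (hi : i ≫ (S ↘ Spec (CommRingCat.of k)) = C ↘ Spec (CommRingCat.of k)) :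
    ∃ F : S.Modules, PicF.IsInvertible F ∧
      Nonempty (CohB1.tensorMod F (ClSub.idealMod i.ker) ≅ Coh.structureModule S) ∧
      (∀ A : S.Modules, PicF.IsInvertible A →
        H28Surf.pr k F A = Curv2.deg k C ((Scheme.Modules.pullback i).obj A) 1) ∧
      Curv2.deg k C ((Scheme.Modules.pullback i).obj F) 1 =
        - Curv2.deg k C ((Scheme.Modules.pullback i).obj (ClSub.idealMod i.ker)) 1 := by
  haveI := H28Int.isNoetherian k (X := S)
  have hI := H28Int.isInvertible_idealMod_curve k hdim i hC
  obtain ⟨F, hF, ⟨e⟩⟩ := H11Sym.exists_inverse hI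
  have e' : CohB1.tensorMod (ClSub.idealMod i.ker) F ≅ Coh.structureModule S := H11Ample.tensorCommIso _ _ ≪≫ e
  refine ⟨F, hF, ⟨e⟩, fun A hA => ?_, ?_⟩
  · have hiA := H11Ample.isInvertible_pullback i hA
    rw [H28Surf.pr_inv_left k hdim hI hF hA e', ← H28Surf.intNum_eq_pr k hdim hI hA,
      H28Surf.intNum_idealMod k hdim.le i.ker hI hA,
      (isAddFn_D k [A] (List.forall_mem_singleton.2 hA)).congr (H28Vert.quotModKerIso i),
      Curves.D_push_affine k i hi hA, H27Prod.deg_eq_D k hiA]
  · have h := H27Prod.deg_tensor k hC.le (H11Ample.isInvertible_pullback i hF) (H11Ample.isInvertible_pullback i hI)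
    rw [H27Prod.deg_congr k ((S11747.pullTensor i _ _).symm ≪≫ (Scheme.Modules.pullback i).mapIso e ≪≫
      H16Derived.KFlat.Stalk.structurePullbackIso i), H27Prod.deg_structure] at h
    linarith

/-- The genus does not change under an extension of the ground field. -/
theorem genus_bc {X : Scheme.{u}} [X.Over (Spec (CommRingCat.of k))] [IsProper (X ↘ Spec (CommRingCat.of k))]
    (K : Type u) [Field K] [Algebra k K] {X' : Scheme.{u}} [X'.Over (Spec (CommRingCat.of K))] {q : X' ⟶ X}
    (hsq : IsPullback q (X' ↘ Spec (CommRingCat.of K)) (X ↘ Spec (CommRingCat.of k))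
      (Spec.map (CommRingCat.ofHom (algebraMap k K)))) :
    Curv2.genus K X' = Curv2.genus k X := by
  haveI := H28Int.isNoetherian k (X := X)
  rw [Curv2.genus, Curv2.genus, ← FieldExt.finrank_HH_bc K hsq (H10Coh.isCoh_structureModule' X) 1]
  exact ((H29RR.hhIso (k := K) (H16Derived.KFlat.Stalk.structurePullbackIso q) 1).finrank_eq).symm

/-- The degree does not change under an extension of the ground field. -/
theorem deg_bc {X : Scheme.{u}} [X.Over (Spec (CommRingCat.of k))] [IsProper (X ↘ Spec (CommRingCat.of k))]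
    (K : Type u) [Field K] [Algebra k K] {X' : Scheme.{u}} [X'.Over (Spec (CommRingCat.of K))]
    [IsProper (X' ↘ Spec (CommRingCat.of K))] {q : X' ⟶ X}
    (hsq : IsPullback q (X' ↘ Spec (CommRingCat.of K)) (X ↘ Spec (CommRingCat.of k))
      (Spec.map (CommRingCat.ofHom (algebraMap k K)))) {L : X.Modules} (hL : PicF.IsInvertible L) :
    Curv2.deg K X' ((Scheme.Modules.pullback q).obj L) 1 = Curv2.deg k X L 1 := by
  haveI := H28Int.isNoetherian k (X := X)
  unfold Curv2.deg
  rw [FieldExt.euler_bc K hsq (H11Ample.isCoh_of_isInvertible hL),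
    ← FieldExt.euler_bc K hsq (H10Coh.isCoh_structureModule' X),
    H25Euler.euler_congr (H16Derived.KFlat.Stalk.structurePullbackIso q)]

end Groth.Agent.H27HW
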