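import Groth.Agent.H27Perf.Tower
import Groth.Agent.H25AbCube.FrobPoints
import Groth.Agent.H27Weil.FrobPoints
import Groth.Agent.H27Zeta.PointCount

/-!
# The Frobenius of a scheme over a finite field and the rational points
-/

set_option autoImplicit false
set_option linter.style.haveILetI false
set_option backward.isDefEq.respectTransparency false
universe u

open CategoryTheory CategoryTheory.Limits AlgebraicGeometry FrobSch

namespace Groth.Agent.H27HW

open Groth.Agent.H27Perf.Tower (fr)

theorem fr_base (p : ℕ) [Fact p.Prime] (X : Scheme.{u}) [IsCharP X p] : ∀ n, (fr p X n).base = 𝟙 _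
  | 0 => rfl
  | n + 1 => by
    show (fr p X n ≫ frob X p).base = _
    rw [Scheme.Hom.comp_base, fr_base p X n, frob_base, Category.id_comp]

theorem le_fr (p : ℕ) [Fact p.Prime] (X : Scheme.{u}) [IsCharP X p] (n : ℕ) (U : X.Opens) :
    U ≤ fr p X n ⁻¹ᵁ U := fun x hx => by
  show (fr p X n).base x ∈ U
  rw [fr_base]; exact hx

theorem fr_appLE (p : ℕ) [Fact p.Prime] (X : Scheme.{u}) [IsCharP X p] : ∀ (n : ℕ) (U : X.Opens) (s : Γ(X, U)),
    ((fr p X n).appLE U U (le_fr p X n U)).hom s = s ^ p ^ n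
  | 0, U, s => by
    show ((𝟙 X : X ⟶ X).appLE U U _).hom s = _
    simp [Scheme.Hom.appLE]
    erw [X.presheaf.map_id]
    rfl
  | n + 1, U, s => by
    show ((fr p X n ≫ frob X p).appLE U U _).hom s = _
    rw [← Scheme.Hom.appLE_comp_appLE (fr p X n) (frob X p) U U U (fun x hx => hx) (le_fr p X n U),
      CommRingCat.comp_apply, fr_appLE p X n U]
    have h : ((frob X p).appLE U U fun x hx => hx).hom s = s ^ p := by
      show ((frob X p).appLE U (frob X p ⁻¹ᵁ U) le_rfl).hom s = _
      rw [← Scheme.Hom.app_eq_appLE]; rfl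
    rw [h, ← pow_mul, pow_succ']

/-- The Frobenius over a finite field. -/
theorem exists_qFrob {k : Type u} [Field k] [Finite k] {X : Scheme.{u}} (f : X ⟶ Spec (CommRingCat.of k)) :
    ∃ (FX : X ⟶ X) (hle : ∀ U : X.Opens, U ≤ FX ⁻¹ᵁ U), FX.base = 𝟙 _ ∧
      (∀ (U : X.Opens) (s : Γ(X, U)), (FX.appLE U U (hle U)).hom s = s ^ Nat.card k) ∧ FX ≫ f = f ∧
      ∀ M : X.Modules, PicF.IsInvertible M →
        Nonempty ((Scheme.Modules.pullback FX).obj M ≅ CohB1.tensorPow M (Nat.card k)) := by
  cases nonempty_fintype k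
  obtain ⟨p, hc⟩ := CharP.exists k
  obtain ⟨N, hp, hq⟩ := FiniteField.card k p
  haveI : Fact p.Prime := ⟨hp⟩
  haveI : IsCharP X p := IsCharP.of_hom f p
  have hq' : Nat.card k = p ^ (N : ℕ) := by rw [Nat.card_eq_fintype_card, hq]
  refine ⟨fr p X N, le_fr p X N, fr_base p X N, fun U s => by rw [hq']; exact fr_appLE p X N U s, ?_, fun M hM => ?_⟩
  · rw [H25AbCube.FrobPoints.fr_comm p f, H25AbCube.FrobPoints.fr_Spec_eq_id p (CommRingCat.of k) N fun x => by
      rw [← hq']
      rw [Nat.card_eq_fintype_card]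
      exact FiniteField.pow_card x, Category.comp_id]
  · rw [hq']; exact H27Perf.Tower.exists_iso_fr hM N

/-- Rational points as the geometric points fixed by Frobenius. -/
theorem natCard_points_eq_fixed {k : Type u} [Field k] [Finite k] {K : Type u} [Field K] [IsAlgClosed K] [Algebra k K]
    {X : Scheme.{u}} (f : X ⟶ Spec (CommRingCat.of k)) (FX : X ⟶ X) (hle : ∀ U : X.Opens, U ≤ FX ⁻¹ᵁ U)
    (hFapp : ∀ (U : X.Opens) (s : Γ(X, U)), (FX.appLE U U (hle U)).hom s = s ^ Nat.card k) :
    SgaExt.pointCount f k = Nat.card {h : Spec (CommRingCat.of K) ⟶ X //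
      h ≫ f = Spec.map (CommRingCat.ofHom (algebraMap k K)) ∧ h ≫ FX = h} := by
  classical
  obtain ⟨σ, hσ⟩ := H27Weil.exists_pow_card_pow_hom k K 1
  letI alg : ∀ x : X, Algebra k (X.residueField x) := fun x =>
    (Spec.preimage (X.fromSpecResidueField x ≫ f) : CommRingCat.of k ⟶ X.residueField x).hom.toAlgebra
  have halg : ∀ x : X, Spec.map (CommRingCat.ofHom (algebraMap k (X.residueField x))) =
      X.fromSpecResidueField x ≫ f := fun x => Spec.map_preimage _
  obtain ⟨e₁⟩ := H27Zeta.points_equiv_sigma f k halg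
  obtain ⟨e₂⟩ := H27Weil.card_hom_eq_card_sigma (k := K) f 1 σ hσ halg
  have hfrob : ∀ h : Spec (CommRingCat.of K) ⟶ X, h ≫ FX = Spec.map (CommRingCat.ofHom σ) ≫ h := fun h =>
    H27Weil.comp_frob_of_local FX hle hFapp (R := CommRingCat.of K) (CommRingCat.ofHom σ)
      (fun a => (hσ a).trans (by rw [pow_one])) h
  let e₃ : {h : Spec (CommRingCat.of K) ⟶ X //
      h ≫ f = Spec.map (CommRingCat.ofHom (algebraMap k K)) ∧ h ≫ FX = h} ≃
      {h : Spec (CommRingCat.of K) ⟶ X //
        h ≫ f = Spec.map (CommRingCat.ofHom (algebraMap k K)) ∧ Spec.map (CommRingCat.ofHom σ) ≫ h = h} :=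
    Equiv.subtypeEquivRight fun h => by rw [hfrob h]
  show Nat.card _ = _
  rw [Nat.card_congr e₁, Nat.card_congr (e₃.trans e₂)]
  cases nonempty_fintype k
  let ι := Algebra.ofId k K
  refine Nat.card_congr (Equiv.sigmaCongrRight fun x => Equiv.ofBijective
    (fun θ => ⟨ι.comp θ, fun a => ?_⟩) ⟨fun θ θ' h => ?_, fun θ => ?_⟩)
  · show ι (θ a) ^ (Nat.card k ^ 1) = ι (θ a)
    rw [← map_pow, pow_one, Nat.card_eq_fintype_card, FiniteField.pow_card]
  · exact AlgHom.ext fun a => (algebraMap k K).injective (AlgHom.congr_fun (congrArg Subtype.val h) a)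
  · have hsurj : ∀ a, θ.1 a ∈ ι.range := fun a => by
      have ha : θ.1 a ^ Fintype.card k = θ.1 a := by simpa [Nat.card_eq_fintype_card] using θ.2 a
      by_contra hn
      have hq1 : 1 < Fintype.card k := Fintype.one_lt_card
      let P : Polynomial K := Polynomial.X ^ Fintype.card k - Polynomial.X
      have hP : P ≠ 0 := FiniteField.X_pow_card_sub_X_ne_zero K hq1
      have hsub : (insert (θ.1 a) (Finset.univ.map ⟨ι, (algebraMap k K).injective⟩)).val ⊆ P.roots := by
        intro z hz
        rw [Polynomial.mem_roots hP]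
        rcases Finset.mem_insert.1 hz with rfl | hz
        · simp [P, ha]
        · obtain ⟨b, -, rfl⟩ := Finset.mem_map.1 hz
          show Polynomial.eval (ι b) P = 0
          simp [P, ← map_pow, FiniteField.pow_card]
      have hle := Polynomial.card_le_degree_of_subset_roots hsub
      rw [Finset.card_insert_of_notMem fun h => hn (let ⟨b, _, hb⟩ := Finset.mem_map.1 h; ⟨b, hb⟩), Finset.card_map,
        Finset.card_univ, FiniteField.X_pow_card_sub_X_natDegree_eq K hq1] at hle
      omega
    let θ' : X.residueField x →ₐ[k] ι.range := θ.1.codRestrict ι.range hsurj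
    refine ⟨((AlgEquiv.ofInjective ι (algebraMap k K).injective).symm.toAlgHom).comp θ', Subtype.ext (AlgHom.ext fun a => ?_)⟩
    show ι ((AlgEquiv.ofInjective ι (algebraMap k K).injective).symm (θ' a)) = θ.1 a
    exact congrArg Subtype.val ((AlgEquiv.ofInjective ι (algebraMap k K).injective).apply_symm_apply (θ' a))

end Groth.Agent.H27HW
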