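import Groth.Agent.H27HW.Finite
import Groth.Agent.H27HW.Frob
import Groth.Agent.H27HW.Degree
import Groth.Agent.H27Prod.Severi
import Groth.Agent.H28Surf.ProperInter
import Groth.Agent.H17.CMInter.Inter
import Groth.Agent.H29CurveDual.Canonical
import Groth.Agent.H29RR.Choice
import Groth.Agent.H10Coh.AffinePush
import Groth.Agent.H8Props.FieldDimScheme
import Groth.Agent.H4Depth.Regular
import Groth.Agent.S14550

/-!
# The Hasse–Weil inequality over the ground field
-/

set_option autoImplicit false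
set_option linter.style.haveILetI false
set_option linter.unusedSectionVars false
set_option backward.isDefEq.respectTransparency.types false
universe u

open CategoryTheory CategoryTheory.Limits AlgebraicGeometry

namespace Groth.Agent.H27HW

open Groth.Agent.H28Surf (pr)

attribute [local instance] Curv2.resAlgebra

/-- A class of nonzero degree on a curve. -/
theorem exists_deg_ne_zero (k : Type u) [Field k] (C : Scheme.{u}) [C.Over (Spec (CommRingCat.of k))]
    [IsProper (C ↘ Spec (CommRingCat.of k))] [Smooth (C ↘ Spec (CommRingCat.of k))] [IsIntegral C]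
    (hdim : topologicalKrullDim C = 1) :
    ∃ M : C.Modules, PicF.IsInvertible M ∧ Curv2.deg k C M 1 ≠ 0 := by
  haveI := H29RR.isNoetherian_of_proper (k := k) (X := C)
  obtain ⟨x, -, hx, hI⟩ := H29RR.exists_point (k := k) hdim ⊤ trivial
  haveI := H29RR.isClosedImmersion_pt hx
  haveI : Module.Finite k (Coh.HH C (ClSub.quotMod (H29RR.ptIdeal x)) 0) :=
    H10Coh.finite_HH_proper k C _
      (H24FSch.isCoh_pushforward_of_isClosedImmersion (H29RR.ptIdeal x).subschemeι (H10Coh.isCoh_structureModule' _)) 0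
  haveI : Module.Finite k (C.residueField x) := by
    obtain ⟨e⟩ := H29RR.nonempty_quotMod_pt_equiv (k := k) hx
    exact Module.Finite.equiv e
  obtain ⟨L', hL', -, hd, -, -⟩ := H29RR.exists_add_point (k := k) hx hI
    (H28Int.isInvertible_structureModule C)
  refine ⟨L', hL', ?_⟩
  rw [hd, H27Prod.deg_structure]
  have : 0 < Module.finrank k (C.residueField x) := Module.finrank_pos
  omega

/-- The graph of an endomorphism as an inverse image of the diagonal. -/
theorem isPullback_graph {B X : Scheme.{u}} (s : X ⟶ B) (F : X ⟶ X) (hF : F ≫ s = s) :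
    IsPullback (pullback.lift (𝟙 X) F (by rw [Category.id_comp, hF]) : X ⟶ pullback s s) F
      (pullback.lift (pullback.fst s s ≫ F) (pullback.snd s s)
        (by rw [Category.assoc, hF, pullback.condition]) : pullback s s ⟶ pullback s s)
      (pullback.diagonal s) := by
  let γ : X ⟶ pullback s s := pullback.lift (𝟙 X) F (by rw [Category.id_comp, hF])
  let φ : pullback s s ⟶ pullback s s := pullback.lift (pullback.fst s s ≫ F) (pullback.snd s s)
    (by rw [Category.assoc, hF, pullback.condition])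
  have γ1 : γ ≫ pullback.fst s s = 𝟙 X := pullback.lift_fst _ _ _
  have γ2 : γ ≫ pullback.snd s s = F := pullback.lift_snd _ _ _
  have φ1 : φ ≫ pullback.fst s s = pullback.fst s s ≫ F := pullback.lift_fst _ _ _
  have φ2 : φ ≫ pullback.snd s s = pullback.snd s s := pullback.lift_snd _ _ _
  have δ1 : pullback.diagonal s ≫ pullback.fst s s = 𝟙 X := pullback.lift_fst _ _ _
  have δ2 : pullback.diagonal s ≫ pullback.snd s s = 𝟙 X := pullback.lift_snd _ _ _
  have e1 : ∀ c : PullbackCone φ (pullback.diagonal s), c.fst ≫ pullback.fst s s ≫ F = c.snd := fun c => by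
    rw [← φ1, ← Category.assoc, c.condition, Category.assoc, δ1, Category.comp_id]
  have e2 : ∀ c : PullbackCone φ (pullback.diagonal s), c.fst ≫ pullback.snd s s = c.snd := fun c => by
    rw [← φ2, ← Category.assoc, c.condition, Category.assoc, δ2, Category.comp_id]
  refine IsPullback.of_isLimit' ⟨?_⟩ (PullbackCone.IsLimit.mk _ (fun c => c.fst ≫ pullback.fst s s)
    (fun c => ?_) (fun c => ?_) (fun c m h₁ h₂ => ?_))
  · show γ ≫ φ = F ≫ pullback.diagonal s
    apply pullback.hom_ext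
    · rw [Category.assoc, φ1, ← Category.assoc, γ1, Category.id_comp, Category.assoc, δ1, Category.comp_id]
    · rw [Category.assoc, φ2, γ2, Category.assoc, δ2, Category.comp_id]
  · show (c.fst ≫ pullback.fst s s) ≫ γ = c.fst
    apply pullback.hom_ext
    · exact ((Category.assoc _ _ _).trans (congrArg ((c.fst ≫ pullback.fst s s) ≫ ·) γ1)).trans (Category.comp_id _)
    · exact (((Category.assoc _ _ _).trans (congrArg ((c.fst ≫ pullback.fst s s) ≫ ·) γ2)).trans
        ((Category.assoc _ _ _).trans (e1 c))).trans (e2 c).symm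
  · show (c.fst ≫ pullback.fst s s) ≫ F = c.snd
    exact (Category.assoc _ _ _).trans (e1 c)
  · show m = c.fst ≫ pullback.fst s s
    exact ((Category.comp_id m).symm.trans ((congrArg (m ≫ ·) γ1.symm).trans (Category.assoc _ _ _).symm)).trans
      (congrArg (· ≫ pullback.fst s s) h₁)

section

variable (k : Type u) [Field k] [Finite k] (C : Scheme.{u}) [C.Over (Spec (CommRingCat.of k))]
  [GeometricallyIrreducible (C ↘ Spec (CommRingCat.of k))]

theorem core (hC : Curve.IsSmoothProperCurve k C (C ↘ Spec (CommRingCat.of k))) :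
    ((SgaExt.pointCount (C ↘ Spec (CommRingCat.of k)) k : ℤ) - (Nat.card k : ℤ) - 1) ^ 2 ≤
      4 * (Curv2.genus k C : ℤ) ^ 2 * (Nat.card k : ℤ) := by
  obtain ⟨hp, hsm, hint, hdim⟩ := hC
  haveI := hp; haveI := hsm; haveI := hint
  let f := C ↘ Spec (CommRingCat.of k)
  let K := AlgebraicClosure k
  let Cb := FinFr.ext K f
  let π : Cb ⟶ C := FinFr.extπ K f
  let s : Cb ⟶ Spec (CommRingCat.of K) := FinFr.extStr K f
  letI : Cb.Over (Spec (CommRingCat.of K)) := ⟨s⟩
  haveI : IsProper (Cb ↘ Spec (CommRingCat.of K)) := inferInstanceAs (IsProper (pullback.snd f (FinFr.specι k K)))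
  haveI : Smooth (Cb ↘ Spec (CommRingCat.of K)) :=
    MorphismProperty.pullback_snd (P := @Smooth) f (FinFr.specι k K) inferInstance
  haveI : IrreducibleSpace Cb :=
    GeometricallyIrreducible.geometrically_irreducibleSpace (f := f) _ _ _ (IsPullback.of_hasPullback f (FinFr.specι k K))
  haveI : GeometricallyConnected (Cb ↘ Spec (CommRingCat.of K)) := H19Grp.geometricallyConnected_of_connectedSpace _
  haveI : IsIntegral Cb := H29RR.isIntegral_of_geomConnected K Cb
  have hdimb : topologicalKrullDim Cb = 1 :=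
    (H8Props.FieldDim.dim_baseChange f π s (IsPullback.of_hasPullback f (FinFr.specι k K))).trans hdim
  have hCb : Curve.IsSmoothProperCurve K Cb (Cb ↘ Spec (CommRingCat.of K)) :=
    ⟨inferInstance, inferInstance, inferInstance, hdimb⟩
  -- Frobenius
  obtain ⟨FX, hle, hFb, hFapp, hFf, hFM⟩ := exists_qFrob f
  let F : Cb ⟶ Cb := pullback.lift (π ≫ FX) s (by rw [Category.assoc, hFf]; exact pullback.condition)
  have hF1 : F ≫ π = π ≫ FX := pullback.lift_fst _ _ _
  have hF2 : F ≫ s = s := pullback.lift_snd _ _ _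
  haveI : LocallyOfFiniteType (Cb ↘ Spec (CommRingCat.of K)) := inferInstance
  -- a rational point
  obtain ⟨x, hx⟩ : ∃ x : Spec (CommRingCat.of K) ⟶ Cb, x ≫ (Cb ↘ Spec (CommRingCat.of K)) = 𝟙 _ := by
    haveI : JacobsonSpace Cb := LocallyOfFiniteType.jacobsonSpace (Cb ↘ Spec (CommRingCat.of K))
    obtain ⟨z, -, hz⟩ := nonempty_inter_closedPoints (Z := (Set.univ : Set Cb)) Set.univ_nonempty
      isClosed_univ.isLocallyClosed
    exact ⟨_, ((pointEquivClosedPoint (Cb ↘ Spec (CommRingCat.of K))).symm ⟨z, mem_closedPoints_iff.1 hz⟩).2⟩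
  -- the square of the curve
  letI iS : (pullback (Cb ↘ Spec (CommRingCat.of K)) (Cb ↘ Spec (CommRingCat.of K))).Over
      (Spec (CommRingCat.of K)) := ⟨pullback.fst _ _ ≫ (Cb ↘ Spec (CommRingCat.of K))⟩
  let S := pullback (Cb ↘ Spec (CommRingCat.of K)) (Cb ↘ Spec (CommRingCat.of K))
  obtain ⟨hSp, hSs, hSi, hSd, -⟩ := H27Prod.product_props K hCb hCb
  haveI := hSp; haveI := hSs; haveI := hSi
  let γ : Cb ⟶ S := pullback.lift (𝟙 Cb) F (by rw [Category.id_comp]; exact hF2.symm)
  let δ : Cb ⟶ S := pullback.diagonal (Cb ↘ Spec (CommRingCat.of K))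
  have γ1 : γ ≫ pullback.fst _ _ = 𝟙 Cb := pullback.lift_fst _ _ _
  have γ2 : γ ≫ pullback.snd _ _ = F := pullback.lift_snd _ _ _
  have δ1 : δ ≫ pullback.fst _ _ = 𝟙 Cb := pullback.lift_fst _ _ _
  have δ2 : δ ≫ pullback.snd _ _ = 𝟙 Cb := pullback.lift_snd _ _ _
  haveI : IsClosedImmersion γ := by
    haveI : IsClosedImmersion (γ ≫ pullback.fst (Cb ↘ Spec (CommRingCat.of K)) (Cb ↘ Spec (CommRingCat.of K))) := by
      rw [γ1]; infer_instance
    exact IsClosedImmersion.of_comp γ (pullback.fst _ _)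
  haveI : IsClosedImmersion δ := by
    haveI : IsClosedImmersion (δ ≫ pullback.fst (Cb ↘ Spec (CommRingCat.of K)) (Cb ↘ Spec (CommRingCat.of K))) := by
      rw [δ1]; infer_instance
    exact IsClosedImmersion.of_comp δ (pullback.fst _ _)
  have wγ : γ ≫ (S ↘ Spec (CommRingCat.of K)) = Cb ↘ Spec (CommRingCat.of K) := by
    show γ ≫ pullback.fst _ _ ≫ _ = _
    rw [← Category.assoc, γ1, Category.id_comp]
  have wδ : δ ≫ (S ↘ Spec (CommRingCat.of K)) = Cb ↘ Spec (CommRingCat.of K) := by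
    show δ ≫ pullback.fst _ _ ≫ _ = _
    rw [← Category.assoc, δ1, Category.id_comp]
  obtain ⟨L, hL, ⟨eL⟩, prL, selfL⟩ := exists_curve_class K hSd hdimb γ wγ
  obtain ⟨L', hL', ⟨eL'⟩, prL', selfL'⟩ := exists_curve_class K hSd hdimb δ wδ
  let i₁ : Cb ⟶ S := pullback.lift (𝟙 Cb) ((Cb ↘ Spec (CommRingCat.of K)) ≫ x)
    (by rw [Category.assoc, hx, Category.comp_id, Category.id_comp])
  let i₂ : Cb ⟶ S := pullback.lift ((Cb ↘ Spec (CommRingCat.of K)) ≫ x) (𝟙 Cb)
    (by rw [Category.assoc, hx, Category.comp_id, Category.id_comp])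
  have i₁1 : i₁ ≫ pullback.fst _ _ = 𝟙 Cb := pullback.lift_fst _ _ _
  have i₁2 : i₁ ≫ pullback.snd _ _ = (Cb ↘ Spec (CommRingCat.of K)) ≫ x := pullback.lift_snd _ _ _
  have i₂1 : i₂ ≫ pullback.fst _ _ = (Cb ↘ Spec (CommRingCat.of K)) ≫ x := pullback.lift_fst _ _ _
  have i₂2 : i₂ ≫ pullback.snd _ _ = 𝟙 Cb := pullback.lift_snd _ _ _
  have wi₁ : i₁ ≫ (S ↘ Spec (CommRingCat.of K)) = Cb ↘ Spec (CommRingCat.of K) := by
    show i₁ ≫ pullback.fst _ _ ≫ _ = _
    rw [← Category.assoc, i₁1, Category.id_comp]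
  have wi₂ : i₂ ≫ (S ↘ Spec (CommRingCat.of K)) = Cb ↘ Spec (CommRingCat.of K) := by
    show i₂ ≫ pullback.fst _ _ ≫ _ = _
    rw [← Category.assoc, i₂1, Category.assoc, hx, Category.comp_id]
  have pb₂ : IsPullback i₂ (Cb ↘ Spec (CommRingCat.of K)) (pullback.fst _ _) x := by
    refine IsPullback.of_right (h₁₂ := pullback.snd _ _) (v₁₃ := Cb ↘ Spec (CommRingCat.of K))
      (h₂₂ := Cb ↘ Spec (CommRingCat.of K)) ?_ i₂1 (IsPullback.of_hasPullback _ _).flip
    rw [i₂2, hx]
    exact IsPullback.of_horiz_isIso ⟨by simp⟩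
  have pb₁ : IsPullback i₁ (Cb ↘ Spec (CommRingCat.of K)) (pullback.snd _ _) x := by
    refine IsPullback.of_right (h₁₂ := pullback.fst _ _) (v₁₃ := Cb ↘ Spec (CommRingCat.of K))
      (h₂₂ := Cb ↘ Spec (CommRingCat.of K)) ?_ i₁2 (IsPullback.of_hasPullback _ _)
    rw [i₁1, hx]
    exact IsPullback.of_horiz_isIso ⟨by simp⟩
  obtain ⟨F₁, hF₁, e₁, ⟨N₁, hN₁, hdN₁, ⟨u₁⟩⟩⟩ :=
    H27Prod.exists_fibre_class' K hSd hCb hdimb (pullback.fst _ _) i₂ wi₂ x hx pb₂
  obtain ⟨F₂, hF₂, e₂, ⟨N₂, hN₂, hdN₂, ⟨u₂⟩⟩⟩ :=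
    H27Prod.exists_fibre_class' K hSd hCb hdimb (pullback.snd _ _) i₁ wi₁ x hx pb₁
  have dpull : ∀ (g : Cb ⟶ S) (p : S ⟶ Cb) (h : Cb ⟶ Cb), g ≫ p = h → ∀ N : Cb.Modules,
      Curv2.deg K Cb ((Scheme.Modules.pullback g).obj ((Scheme.Modules.pullback p).obj N)) 1 =
        Curv2.deg K Cb ((Scheme.Modules.pullback h).obj N) 1 := fun g p h e N =>
    H27Prod.deg_congr K ((Scheme.Modules.pullbackComp g p).app N ≪≫ eqToIso (by rw [e]))
  have didl : ∀ N : Cb.Modules, Curv2.deg K Cb ((Scheme.Modules.pullback (𝟙 Cb)).obj N) 1 = Curv2.deg K Cb N 1 :=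
    fun N => H27Prod.deg_congr K ((Scheme.Modules.pullbackId Cb).app N)
  -- degree of Frobenius
  haveI : IsFinite F := by
    haveI : IsProper F := by
      haveI : IsProper (F ≫ (Cb ↘ Spec (CommRingCat.of K))) := by
        rw [show F ≫ (Cb ↘ Spec (CommRingCat.of K)) = Cb ↘ Spec (CommRingCat.of K) from hF2]; infer_instance
      exact IsProper.of_comp F (Cb ↘ Spec (CommRingCat.of K))
    rcases H28Int.Curves.finite_or_const K hdimb F hF2 with hfin | ⟨z, hz0, hz⟩
    · exact hfin
    exfalso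
    have hsurj : Function.Surjective π := by
      haveI : Surjective (FinFr.specι k K) := H17.ConsProp.surjective_of_subsingleton _
      exact (inferInstance : Surjective (pullback.fst f (FinFr.specι k K))).surj
    have hall : ∀ c : C, c = π z := fun c => by
      obtain ⟨y, rfl⟩ := hsurj c
      have h1 : π (F y) = FX (π y) := congrArg (fun g : Cb ⟶ C => g y) hF1
      rw [hz y] at h1
      rw [h1]
      show π y = FX.base (π y)
      rw [hFb]; rfl
    haveI : Subsingleton C := ⟨fun a b => (hall a).trans (hall b).symm⟩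
    exact absurd (hdim.symm.le.trans (topologicalKrullDim_zero_of_discreteTopology C)) (by decide)
  obtain ⟨M, hM, hMd⟩ := exists_deg_ne_zero k C hdim
  have hbc : ∀ {N : C.Modules}, PicF.IsInvertible N →
      Curv2.deg K Cb ((Scheme.Modules.pullback π).obj N) 1 = Curv2.deg k C N 1 := fun hN =>
    deg_bc k K (IsPullback.of_hasPullback f (FinFr.specι k K)) hN
  have hFdeg : ∀ N : Cb.Modules, PicF.IsInvertible N →
      Curv2.deg K Cb ((Scheme.Modules.pullback F).obj N) 1 = (Nat.card k : ℤ) * Curv2.deg K Cb N 1 := by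
    intro N hN
    have hMb := H11Ample.isInvertible_pullback π hM
    have h := deg_pullback_prop K hdimb F hF2 (H10Coh.isCoh_push_of_isFinite F _ (H10Coh.isCoh_structureModule' Cb)) hN hMb
    obtain ⟨eM⟩ := hFM M hM
    have h2 : Curv2.deg K Cb ((Scheme.Modules.pullback F).obj ((Scheme.Modules.pullback π).obj M)) 1 =
        (Nat.card k : ℤ) * Curv2.deg k C M 1 := by
      refine (H27Prod.deg_congr K ((Scheme.Modules.pullbackComp F π).app M ≪≫ eqToIso (by rw [hF1]) ≪≫
        ((Scheme.Modules.pullbackComp π FX).app M).symm ≪≫ (Scheme.Modules.pullback π).mapIso eM)).trans ?_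
      rw [hbc (H11Ample.isInvertible_tensorPow hM _), deg_pow k hdim.le hM]
    rw [h2, hbc hM] at h
    refine mul_right_cancel₀ hMd (h.trans ?_)
    ring
  have haL : Curv2.deg K Cb ((Scheme.Modules.pullback i₁).obj L) 1 = (Nat.card k : ℤ) := by
    rw [← e₂ L hL, H28Surf.pr_symm K F₂ L, prL F₂ hF₂,
      H27Prod.deg_congr K ((Scheme.Modules.pullback γ).mapIso u₂), dpull γ _ F γ2, hFdeg N₂ hN₂, hdN₂, mul_one]
  have hbL : Curv2.deg K Cb ((Scheme.Modules.pullback i₂).obj L) 1 = 1 := by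
    rw [← e₁ L hL, H28Surf.pr_symm K F₁ L, prL F₁ hF₁,
      H27Prod.deg_congr K ((Scheme.Modules.pullback γ).mapIso u₁), dpull γ _ _ γ1, didl, hdN₁]
  have haL' : Curv2.deg K Cb ((Scheme.Modules.pullback i₁).obj L') 1 = 1 := by
    rw [← e₂ L' hL', H28Surf.pr_symm K F₂ L', prL' F₂ hF₂,
      H27Prod.deg_congr K ((Scheme.Modules.pullback δ).mapIso u₂), dpull δ _ _ δ2, didl, hdN₂]
  have hbL' : Curv2.deg K Cb ((Scheme.Modules.pullback i₂).obj L') 1 = 1 := by
    rw [← e₁ L' hL', H28Surf.pr_symm K F₁ L', prL' F₁ hF₁,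
      H27Prod.deg_congr K ((Scheme.Modules.pullback δ).mapIso u₁), dpull δ _ _ δ1, didl, hdN₁]
  -- self intersections
  let g : ℤ := (Curv2.genus k C : ℤ)
  have hg : (Curv2.genus K Cb : ℤ) = g := by
    rw [genus_bc k K (IsPullback.of_hasPullback f (FinFr.specι k K))]
  have hΩ : Curv2.deg K Cb (Omega.sheaf (Cb ↘ Spec (CommRingCat.of K))) 1 = 2 * g - 2 := by
    rw [H29CurveDual.deg_omega_of_h0 hdimb (H29RR.finrank_h0_structure K Cb), hg]
  have hΩi : PicF.IsInvertible (Omega.sheaf (Cb ↘ Spec (CommRingCat.of K))) :=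
    H29CurveDual.isInvertible_omega_curve (k := K) hdimb
  have hIγ := H28Int.isInvertible_idealMod_curve K hSd γ hdimb
  have hIδ := H28Int.isInvertible_idealMod_curve K hSd δ hdimb
  let φ : S ⟶ S := pullback.lift (pullback.fst _ _ ≫ F) (pullback.snd _ _)
    (by rw [Category.assoc]; erw [hF2]; exact pullback.condition)
  have hpb : IsPullback γ F φ δ := isPullback_graph (Cb ↘ Spec (CommRingCat.of K)) F hF2
  have hcomap : δ.ker.comap φ = γ.ker := by
    rw [← Scheme.IdealSheafData.ker_fst_of_isClosedImmersion δ φ,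
      ← Scheme.Hom.ker_comp_of_isIso hpb.isoPullback.hom (pullback.fst φ δ), IsPullback.isoPullback_hom_fst]
  obtain ⟨eI⟩ := H12Pic.CurveFam.nonempty_pullback_idealMod_comap φ (I := δ.ker)
    ((S8914.result δ.ker).1 hIδ) (by rw [hcomap]; exact (S8914.result γ.ker).1 hIγ)
  rw [hcomap] at eI
  have hγI : Curv2.deg K Cb ((Scheme.Modules.pullback γ).obj (ClSub.idealMod γ.ker)) 1 =
      (Nat.card k : ℤ) * (2 * g - 2) := by
    rw [H27Prod.deg_congr K ((Scheme.Modules.pullback γ).mapIso eI.symm ≪≫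
      (Scheme.Modules.pullbackComp γ φ).app _ ≪≫ eqToIso (by rw [hpb.w]) ≪≫
      ((Scheme.Modules.pullbackComp F δ).app _).symm)]
    exact (hFdeg _ hΩi).trans (by rw [hΩ])
  have hLL : pr K L L = - ((Nat.card k : ℤ) * (2 * g - 2)) := by rw [prL L hL, selfL, hγI]
  have hL'L' : pr K L' L' = - (2 * g - 2) := by
    rw [prL' L' hL', selfL', ← hΩ]; rfl
  -- the intersection with the diagonal counts the rational points
  obtain ⟨hred, hfinZ⟩ := S14550.result f FX hFb hle hFapp F hF1 hF2
  let Z := pullback γ δ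
  haveI : IsReduced Z := hred
  haveI : Finite Z := hfinZ
  let i : Z ⟶ S := pullback.fst γ δ ≫ γ
  letI : Z.Over (Spec (CommRingCat.of K)) := ⟨i ≫ (S ↘ Spec (CommRingCat.of K))⟩
  haveI : IsProper (Z ↘ Spec (CommRingCat.of K)) := inferInstanceAs (IsProper (i ≫ (S ↘ Spec (CommRingCat.of K))))
  have hker : i.ker = γ.ker ⊔ δ.ker := H17.CMInter.ker_fst_comp γ δ
  have hfin : ((γ.ker ⊔ δ.ker).support : Set S).Finite := by
    rw [← hker, Scheme.Hom.support_ker, i.isClosedEmbedding.isClosed_range.closure_eq]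
    exact Set.finite_range _
  have hint := H28Surf.intNum_eq_finrank K (X := S) (fun W hW => by
      rw [irreducibleComponents_eq_singleton] at hW
      rw [hW]
      exact (IsHomeomorph.topologicalKrullDim_eq _ (Homeomorph.Set.univ S).isHomeomorph).trans hSd)
    (fun z => by
      haveI := H19Grp.isRegularLocalRing_stalk_of_smooth (S ↘ Spec (CommRingCat.of K)) z
      exact H4Depth.isCohenMacaulayLocalRing_of_regular _)
    γ.ker δ.ker ((S8914.result γ.ker).1 hIγ) ((S8914.result δ.ker).1 hIδ) hfin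
  rw [H28Surf.intNum_eq_pr K hSd hIγ hIδ, ← hker] at hint
  haveI : (Coh.structureModule Z).IsQuasicoherent := H10Coh.isQuasicoherent_unit
  rw [(H29RR.hhIso (k := K) (H28Vert.quotModKerIso i) 0).finrank_eq,
    H28Int.Push.finrank_HH_push K i rfl, finrank_h0_eq_natCard K Z,
    natCard_eq_natCard_points K Z (Z ↘ Spec (CommRingCat.of K))] at hint
  have hcount : Nat.card {t : Spec (CommRingCat.of K) ⟶ Z // t ≫ (Z ↘ Spec (CommRingCat.of K)) = 𝟙 _} =
      SgaExt.pointCount f k := by
    rw [natCard_points_eq_fixed (K := K) f FX hle hFapp]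
    have hc1 : pullback.fst γ δ = pullback.snd γ δ := by
      have := congrArg (· ≫ pullback.fst _ _) (pullback.condition (f := γ) (g := δ))
      simpa [γ1, δ1] using this
    have hc2 : pullback.fst γ δ ≫ F = pullback.snd γ δ := by
      have := congrArg (· ≫ pullback.snd _ _) (pullback.condition (f := γ) (g := δ))
      simpa [γ2, δ2] using this
    have hi : i ≫ (S ↘ Spec (CommRingCat.of K)) = pullback.fst γ δ ≫ s :=
      (Category.assoc _ _ _).trans (congrArg (pullback.fst γ δ ≫ ·) wγ)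
    have hw : π ≫ f = s ≫ FinFr.specι k K := pullback.condition
    refine Nat.card_congr
      { toFun := fun t => ⟨t.1 ≫ pullback.fst γ δ ≫ π, ?_, ?_⟩
        invFun := fun h => ⟨pullback.lift (pullback.lift h.1 (𝟙 _) (h.2.1.trans (Category.id_comp _).symm) : _ ⟶ Cb)
          (pullback.lift h.1 (𝟙 _) (h.2.1.trans (Category.id_comp _).symm) : _ ⟶ Cb) ?_, ?_⟩
        left_inv := fun t => ?_
        right_inv := fun h => ?_ }
    · rw [Category.assoc, Category.assoc, hw, ← Category.assoc (pullback.fst γ δ), ← hi, ← Category.assoc]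
      erw [t.2]; rw [Category.id_comp]
    · show (t.1 ≫ pullback.fst γ δ ≫ π) ≫ FX = t.1 ≫ pullback.fst γ δ ≫ π
      have e : pullback.fst γ δ ≫ π ≫ FX = pullback.fst γ δ ≫ π :=
        (congrArg (pullback.fst γ δ ≫ ·) hF1.symm).trans ((Category.assoc _ _ _).symm.trans
          (congrArg (· ≫ π) (hc2.trans hc1.symm)))
      exact (Category.assoc _ _ _).trans (congrArg (t.1 ≫ ·) ((Category.assoc _ _ _).trans e))
    · have hcF : (pullback.lift h.1 (𝟙 _) (h.2.1.trans (Category.id_comp _).symm) : Spec (CommRingCat.of K) ⟶ Cb) ≫ F =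
          pullback.lift h.1 (𝟙 _) (h.2.1.trans (Category.id_comp _).symm) := by
        apply pullback.hom_ext
        · rw [Category.assoc]; erw [hF1]; rw [← Category.assoc]; erw [pullback.lift_fst]; exact h.2.2.trans rfl
        · rw [Category.assoc]; erw [hF2]
      apply pullback.hom_ext
      · rw [Category.assoc, Category.assoc, γ1, δ1]
      · rw [Category.assoc, Category.assoc, γ2, δ2, hcF, Category.comp_id]
    · show pullback.lift _ _ _ ≫ i ≫ (S ↘ Spec (CommRingCat.of K)) = _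
      rw [hi, ← Category.assoc, pullback.lift_fst]
      exact pullback.lift_snd _ _ _
    · refine Subtype.ext ?_
      have ht : (pullback.lift (t.1 ≫ pullback.fst γ δ ≫ π) (𝟙 _) (by
          rw [Category.assoc, Category.assoc, hw, ← Category.assoc (pullback.fst γ δ), ← hi, ← Category.assoc]
          erw [t.2]) : _ ⟶ Cb) = t.1 ≫ pullback.fst γ δ := by
        apply pullback.hom_ext
        · rw [pullback.lift_fst, Category.assoc]
        · rw [pullback.lift_snd, Category.assoc]
          exact ((congrArg (t.1 ≫ ·) hi).symm.trans t.2).symm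
      apply pullback.hom_ext
      · rw [pullback.lift_fst]; exact ht
      · rw [pullback.lift_snd]; exact ht.trans (congrArg (t.1 ≫ ·) hc1)
    · refine Subtype.ext ?_
      show pullback.lift _ _ _ ≫ pullback.fst γ δ ≫ π = h.1
      rw [← Category.assoc, pullback.lift_fst]
      exact pullback.lift_fst _ _ _
  rw [hcount] at hint
  -- conclusion
  have eM : CohB1.tensorMod L (ClSub.idealMod γ.ker) ≅ Coh.structureModule S := eL
  have h := (H27Prod.severi K hCb hCb x hx x hx i₁ ⟨i₁1, i₁2⟩ i₂ ⟨i₂2, i₂1⟩ L (ClSub.idealMod γ.ker) L'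
    (ClSub.idealMod δ.ker) hL ⟨eM⟩ hL' ⟨eL'⟩).2
  simp only [] at h
  rw [haL, hbL, haL', hbL', H28Surf.intNum_eq_pr K hSd hIγ hIδ, H28Surf.intNum_eq_pr K hSd hIγ hIγ,
    H28Surf.intNum_eq_pr K hSd hIδ hIδ] at h
  have eγ : CohB1.tensorMod L (ClSub.idealMod γ.ker) ≅ Coh.structureModule S := eL
  have hII : pr K (ClSub.idealMod γ.ker) (ClSub.idealMod γ.ker) = pr K L L := by
    rw [H28Surf.pr_inv_left K hSd hL hIγ hIγ eL, H28Surf.pr_symm K L, H28Surf.pr_inv_left K hSd hL hIγ hL eL, neg_neg]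
  have hJJ : pr K (ClSub.idealMod δ.ker) (ClSub.idealMod δ.ker) = pr K L' L' := by
    rw [H28Surf.pr_inv_left K hSd hL' hIδ hIδ eL', H28Surf.pr_symm K L', H28Surf.pr_inv_left K hSd hL' hIδ hL' eL', neg_neg]
  rw [hII, hJJ, hLL, hL'L', hint] at h
  nlinarith

end

end Groth.Agent.H27HW
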