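import Groth.Agent.H27HW.Core

/-!
# The Hasse–Weil inequality over a finite extension
-/

set_option autoImplicit false
set_option linter.style.haveILetI false
set_option linter.unusedSectionVars false
set_option backward.isDefEq.respectTransparency.types false
universe u

open CategoryTheory CategoryTheory.Limits AlgebraicGeometry

namespace Groth.Agent.H27HW

/-- Base change of a smooth proper geometrically irreducible curve. -/
theorem curve_baseChange {k : Type u} [Field k] {C : Scheme.{u}} (f : C ⟶ Spec (CommRingCat.of k))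
    (hC : Curve.IsSmoothProperCurve k C f) [GeometricallyIrreducible f] (k' : Type u) [Field k'] [Algebra k k'] :
    Curve.IsSmoothProperCurve k' (FinFr.ext k' f) (FinFr.extStr k' f) := by
  obtain ⟨hp, hsm, hint, hdim⟩ := hC
  haveI := hp; haveI := hsm
  letI : (FinFr.ext k' f).Over (Spec (CommRingCat.of k')) := ⟨FinFr.extStr k' f⟩
  haveI h1 : IsProper (FinFr.extStr k' f) := inferInstanceAs (IsProper (pullback.snd f (FinFr.specι k k')))
  haveI h2 : Smooth (FinFr.extStr k' f) := MorphismProperty.pullback_snd (P := @Smooth) f (FinFr.specι k k') inferInstance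
  haveI : IsProper (FinFr.ext k' f ↘ Spec (CommRingCat.of k')) := h1
  haveI : Smooth (FinFr.ext k' f ↘ Spec (CommRingCat.of k')) := h2
  haveI : GeometricallyConnected (FinFr.ext k' f ↘ Spec (CommRingCat.of k')) := ⟨fun _ _ _ _ _ _ h => by
    haveI := GeometricallyIrreducible.geometrically_irreducibleSpace
      (f := pullback.snd f (FinFr.specι k k')) _ _ _ h
    infer_instance⟩
  exact ⟨h1, h2, H29RR.isIntegral_of_geomConnected k' (FinFr.ext k' f),
    (H8Props.FieldDim.dim_baseChange f _ _ (IsPullback.of_hasPullback f (FinFr.specι k k'))).trans hdim⟩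

/-- Points of the base change with values in the extension. -/
theorem pointCount_baseChange {k : Type u} [Field k] {C : Scheme.{u}} (f : C ⟶ Spec (CommRingCat.of k))
    (k' : Type u) [Field k'] [Algebra k k'] :
    SgaExt.pointCount (FinFr.extStr k' f) k' = SgaExt.pointCount f k' := by
  have hid : Spec.map (CommRingCat.ofHom (algebraMap k' k')) = 𝟙 _ := Spec.map_id _
  show Nat.card {g : Spec (CommRingCat.of k') ⟶ FinFr.ext k' f //
    g ≫ FinFr.extStr k' f = Spec.map (CommRingCat.ofHom (algebraMap k' k'))} =
      Nat.card {g : Spec (CommRingCat.of k') ⟶ C // g ≫ f = Spec.map (CommRingCat.ofHom (algebraMap k k'))}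
  refine Nat.card_congr
    { toFun := fun g => ⟨g.1 ≫ FinFr.extπ k' f, ?_⟩
      invFun := fun h => ⟨pullback.lift h.1 (𝟙 _) (h.2.trans (Category.id_comp _).symm), ?_⟩
      left_inv := fun g => Subtype.ext ?_
      right_inv := fun h => Subtype.ext ?_ }
  · refine (Category.assoc _ _ _).trans ((congrArg (g.1 ≫ ·) (pullback.condition)).trans ?_)
    refine (Category.assoc _ _ _).symm.trans ?_
    erw [g.2, hid]
    exact Category.id_comp _
  · rw [hid]; exact pullback.lift_snd _ _ _
  · apply pullback.hom_ext
    · exact pullback.lift_fst _ _ _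
    · exact (pullback.lift_snd _ _ _).trans (g.2.trans hid).symm
  · exact pullback.lift_fst _ _ _

/-- The Hasse–Weil inequality, squared, in every finite extension. -/
theorem hasseWeil_sq {k : Type u} [Field k] [Finite k] {C : Scheme.{u}} (f : C ⟶ Spec (CommRingCat.of k))
    (hC : Curve.IsSmoothProperCurve k C f) [GeometricallyIrreducible f] (k' : Type u) [Field k'] [Algebra k k']
    [Finite k'] :
    letI : C.Over (Spec (CommRingCat.of k)) := ⟨f⟩
    ((SgaExt.pointCount f k' : ℤ) - (Nat.card k : ℤ) ^ Module.finrank k k' - 1) ^ 2 ≤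
      4 * (Curv2.genus k C : ℤ) ^ 2 * (Nat.card k : ℤ) ^ Module.finrank k k' := by
  letI : C.Over (Spec (CommRingCat.of k)) := ⟨f⟩
  haveI : IsProper (C ↘ Spec (CommRingCat.of k)) := hC.1
  letI : (FinFr.ext k' f).Over (Spec (CommRingCat.of k')) := ⟨FinFr.extStr k' f⟩
  haveI : GeometricallyIrreducible (FinFr.ext k' f ↘ Spec (CommRingCat.of k')) :=
    inferInstanceAs (GeometricallyIrreducible (pullback.snd f (FinFr.specι k k')))
  have h := core k' (FinFr.ext k' f) (curve_baseChange f hC k')
  rw [genus_bc k k' (X := C) (q := FinFr.extπ k' f) (IsPullback.of_hasPullback f (FinFr.specι k k'))] at h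
  have hcard : (Nat.card k' : ℤ) = (Nat.card k : ℤ) ^ Module.finrank k k' := by
    exact_mod_cast Module.natCard_eq_pow_finrank
  rw [show SgaExt.pointCount (FinFr.ext k' f ↘ Spec (CommRingCat.of k')) k' = SgaExt.pointCount f k' from
    pointCount_baseChange f k', hcard] at h
  exact h

/-- The genus read off the number of classes in `H¹`. -/
theorem genus_eq_of_natCard {k : Type u} [Field k] [Finite k] {C : Scheme.{u}} (f : C ⟶ Spec (CommRingCat.of k))
    [IsProper f] (g : ℕ) (hg : Nat.card (Coh.HH C (Coh.structureModule C) 1) = Nat.card k ^ g) :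
    letI : C.Over (Spec (CommRingCat.of k)) := ⟨f⟩
    Curv2.genus k C = g := by
  letI : C.Over (Spec (CommRingCat.of k)) := ⟨f⟩
  haveI : IsProper (C ↘ Spec (CommRingCat.of k)) := ‹_›
  haveI := H28Int.isNoetherian k (X := C)
  haveI := H10Coh.finite_HH_proper k C (Coh.structureModule C) (H10Coh.isCoh_structureModule' C) 1
  have h : Nat.card (Coh.HH C (Coh.structureModule C) 1) = Nat.card k ^ Curv2.genus k C :=
    Module.natCard_eq_pow_finrank
  exact Nat.pow_right_injective Finite.one_lt_card (h.symm.trans hg)

end Groth.Agent.H27HW
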